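import Mathlib
import Cfsg.Prelude.Def_GeometricClasses
import Cfsg.Agent.Lib.Helper27.ASC.Defs

/-!
# Project ASG (leader: helper19) : S5630, the subgroup structure of `GL_n(F)`, all `n ≥ 3` (Aschbacher, containment form)

Shared vocabulary on top of `Cfsg.Agent.Lib.Helper27.ASC` (`NormalIn`, `Irr`, `AbsIrr`, `centAlg`, `AllNormalAbsIrr`,
`MinNonscalar`), and the ten trivial constructors of the goal `InClass H`.
-/

set_option autoImplicit false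

namespace Cfsg.Agent.Lib.Helper19.ASG

open Cfsg Cfsg.Geo Cfsg.Agent.Lib.Helper27.ASC
open scoped MatrixGroups Matrix Kronecker

variable {n : ℕ} {F : Type*} [Field F]

/-- `W` is mapped into itself by every element of `N`. -/
def Inv (N : Subgroup (GL (Fin n) F)) (W : Submodule F (Fin n → F)) : Prop :=
  ∀ x ∈ N, ∀ v ∈ W, (x : Matrix (Fin n) (Fin n) F) *ᵥ v ∈ W

variable [Fintype F]

/-- the goal: `H` lies in a member of one of the eight geometric classes of `GL_n(F)` -/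
def InClass (H : Subgroup (GL (Fin n) F)) : Prop :=
  ∃ M : Subgroup (GL (Fin n) F), InLinearClass n F M ∧ H ≤ M

theorem inClass_mono {H K : Subgroup (GL (Fin n) F)} (h : H ≤ K) (hK : InClass K) : InClass H := by
  obtain ⟨M, hM, hKM⟩ := hK
  exact ⟨M, hM, h.trans hKM⟩

/-- class 1 -/
theorem inClass_of_stab {H : Subgroup (GL (Fin n) F)} (W : Submodule F (Fin n → F)) (h0 : W ≠ ⊥) (h1 : W ≠ ⊤)
    (h : H ≤ subspaceStabilizer W) : InClass H :=
  ⟨_, Or.inl ⟨W, h0, h1, rfl⟩, h⟩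

/-- class 2 -/
theorem inClass_of_dec {H : Subgroup (GL (Fin n) F)} {t m : ℕ} (D : Fin t → Submodule F (Fin n → F))
    (hD : IsMDecomposition m D) (h : H ≤ decompositionStabilizer D) : InClass H :=
  ⟨_, Or.inr (Or.inr (Or.inr (Or.inl ⟨t, m, D, hD, rfl⟩))), h⟩

/-- class 3 -/
theorem inClass_of_field {H : Subgroup (GL (Fin n) F)} {r : ℕ} (hr : r.Prime)
    (K : Subalgebra F (Matrix (Fin n) (Fin n) F)) (hK : IsFieldSubalgebra r K)
    (h : H ≤ subalgebraNormalizer K) : InClass H :=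
  ⟨_, Or.inr (Or.inr (Or.inr (Or.inr (Or.inl ⟨r, K, hr, hK, rfl⟩)))), h⟩

/-- class 4 -/
theorem inClass_of_tensor {H : Subgroup (GL (Fin n) F)} {n₁ n₂ : ℕ} (e : Fin n ≃ Fin n₁ × Fin n₂)
    (P : GL (Fin n) F) (h1 : 2 ≤ n₁) (h2 : n₁ < n₂) (h : H ≤ tensorProductSubgroup n₁ n₂ e P) : InClass H :=
  ⟨_, Or.inr (Or.inr (Or.inr (Or.inr (Or.inr (Or.inl ⟨n₁, n₂, e, P, h1, h2, rfl⟩))))), h⟩

/-- class 5 -/
theorem inClass_of_subfield {H : Subgroup (GL (Fin n) F)} (F₀ : Subfield F) {r : ℕ} (hr : r.Prime)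
    (hc : Fintype.card F = Nat.card F₀ ^ r) (P : GL (Fin n) F) (h : H ≤ subfieldSubgroup F₀ P) : InClass H :=
  ⟨_, Or.inr (Or.inr (Or.inr (Or.inr (Or.inr (Or.inr (Or.inl ⟨F₀, r, P, hr, hc, rfl⟩)))))), h⟩

/-- class 6 -/
theorem inClass_of_sympl {H : Subgroup (GL (Fin n) F)} {r : ℕ} (R : Subgroup (GL (Fin n) F))
    (hR : IsLinearSymplecticTypeData r R) (h : H ≤ subgroupNormalizer R) : InClass H :=
  ⟨_, Or.inr (Or.inr (Or.inr (Or.inr (Or.inr (Or.inr (Or.inr (Or.inl ⟨r, R, hR, rfl⟩))))))), h⟩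

/-- class 7 -/
theorem inClass_of_wreath {H : Subgroup (GL (Fin n) F)} {m t : ℕ} (e : Fin n ≃ (Fin t → Fin m))
    (P : GL (Fin n) F) (hm : 3 ≤ m) (ht : 2 ≤ t) (h : H ≤ tensorWreathSubgroup m t e P) : InClass H :=
  ⟨_, Or.inr (Or.inr (Or.inr (Or.inr (Or.inr (Or.inr (Or.inr (Or.inr (Or.inl
    ⟨m, t, e, P, hm, ht, rfl⟩)))))))), h⟩

/-- class 8, symplectic -/
theorem inClass_of_symp {H : Subgroup (GL (Fin n) F)} (f : (Fin n → F) → (Fin n → F) → F)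
    (hf : IsSymplecticForm f) (he : Even n) (h4 : 4 ≤ n) (h : H ≤ similarityGroup f) : InClass H :=
  ⟨_, Or.inr (Or.inr (Or.inr (Or.inr (Or.inr (Or.inr (Or.inr (Or.inr (Or.inr (Or.inl
    ⟨f, hf, he, h4, rfl⟩))))))))), h⟩

/-- class 8, unitary -/
theorem inClass_of_unit {H : Subgroup (GL (Fin n) F)} (σ : F ≃+* F) (f : (Fin n → F) → (Fin n → F) → F)
    (hf : IsUnitaryForm σ f) (h3 : 3 ≤ n) (h : H ≤ similarityGroup f) : InClass H :=
  ⟨_, Or.inr (Or.inr (Or.inr (Or.inr (Or.inr (Or.inr (Or.inr (Or.inr (Or.inr (Or.inr (Or.inl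
    ⟨σ, f, hf, h3, rfl⟩)))))))))), h⟩

/-- class 8, quadratic (odd characteristic) -/
theorem inClass_of_quad {H : Subgroup (GL (Fin n) F)} (Q : (Fin n → F) → F)
    (hQ : IsNondegenerateQuadraticForm Q) (ho : Odd (Fintype.card F)) (h3 : 3 ≤ n)
    (h : H ≤ quadSimilarityGroup Q) : InClass H :=
  ⟨_, Or.inr (Or.inr (Or.inr (Or.inr (Or.inr (Or.inr (Or.inr (Or.inr (Or.inr (Or.inr (Or.inr
    ⟨Q, hQ, ho, h3, rfl⟩)))))))))), h⟩

end Cfsg.Agent.Lib.Helper19.ASG
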